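import Mathlib
import Cfsg.Prelude.Def_OddOrderLocal

/-!
# The asymmetry lemma (Bender–Glauberman 13.8): interface

`L4Concl M P Q` records the conclusions of the preparatory lemma (B&G 13.4/13.5, "L4") for a
coatom `M`, a subgroup `P` of prime order `p ∈ τ₁(M)` and a `P`-invariant Sylow subgroup `Q` of `M`
with `C_Q(P) = 1` whose normalizer lies in another coatom.  The asymmetry lemma itself
(`asymmetry_of_L4`, file `AsymEnd.lean`) takes two such records as hypotheses.
-/

set_option autoImplicit false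

namespace Cfsg.Agent.Lib.Helper51.BG

open Cfsg

universe u

/-- The conclusions of Lemma L4 for the triple `(M, P, Q)`:
`α(M) = β(M)`; no prime of `Q` lies in `α(M)`; `M = M_α N_M(Q)`; `C_{M_α}(P) ≠ 1`;
every Sylow subgroup of `C_{M_α}(P)` is cyclic; `C_{M_α}(QP) = 1`; `Q = [Q, P]`. -/
structure L4Concl {G : Type u} [Group G] (M P Q : Subgroup G) : Prop where
  alpha_beta : ∀ s : ℕ, s ∈ alpha M → s ∈ beta M
  q_not_alpha : ∀ s : ℕ, s.Prime → s ∣ Nat.card Q → s ∉ alpha M
  frattini : M ≤ alphaCore M ⊔ (M ⊓ Subgroup.normalizer (Q : Set G))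
  cent_ne : alphaCore M ⊓ Subgroup.centralizer (P : Set G) ≠ ⊥
  cent_cyc : ∀ (s : ℕ) (S : Subgroup G), s.Prime → IsPGroup s S →
    S ≤ alphaCore M ⊓ Subgroup.centralizer (P : Set G) → IsCyclic S
  cent_QP : alphaCore M ⊓ Subgroup.centralizer (Q : Set G) ⊓
    Subgroup.centralizer (P : Set G) = ⊥
  comm : Q ≤ ⁅Q, P⁆

end Cfsg.Agent.Lib.Helper51.BG
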