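import Mathlib
import Cfsg.Prelude.Def_OddOrderLocal
import Cfsg.Statements.S1403
import Cfsg.Statements.S1405
import Cfsg.Statements.S1423
import Cfsg.Agent.Lib.Helper51.BG.AsymDefs
import Cfsg.Agent.Lib.Helper54.BG.AsymL4
import Cfsg.Agent.Lib.Helper53.PGroups
import Cfsg.Agent.Lib.Helper1.Hall
import Cfsg.Agent.Lib.Helper67.BG.HallUtil
import Cfsg.Agent.Lib.Helper13.BG.Tools
import Cfsg.Agent.Lib.Helper13.BG.S1427A
import Cfsg.Agent.Lib.Helper75.BGUtil
import Cfsg.Agent.Lib.Helper35.BG.Basic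
import Cfsg.Agent.Lib.Helper23.Transitivity
import Cfsg.Agent.Lib.Helper78.BG.S1405Core

/-!
# The end of the asymmetry lemma (Bender–Glauberman 13.9-type argument), helper51

`asym_end`: given the conclusions of Lemma L4 on both sides and "Claim A" on both sides, a
contradiction.  See team note 2127 (B) / 2346.
-/

set_option autoImplicit false

namespace Cfsg.Agent.Lib.Helper51.BG

open Cfsg Cfsg.Agent.Lib.Helper46 Cfsg.Agent.Lib.Helper35.BG

universe u

variable {G : Type u} [Group G] [Finite G]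

/-- Cauchy inside a subgroup. -/
theorem exists_orderOf_eq_of_dvd_card {H : Subgroup G} {s : ℕ} (hs : s.Prime)
    (hd : s ∣ Nat.card H) : ∃ y ∈ H, orderOf y = s := by
  have : Fact s.Prime := ⟨hs⟩
  obtain ⟨x, hx⟩ := exists_prime_orderOf_dvd_card' (G := H) s hd
  exact ⟨x, x.2, by rw [← hx, Subgroup.orderOf_coe]⟩

omit [Finite G] in
theorem card_zpowers_of_orderOf {y : G} {s : ℕ} (h : orderOf y = s) :
    Nat.card (Subgroup.zpowers y) = s := by
  rw [Nat.card_zpowers, h]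

omit [Finite G] in
theorem card_mul_relIndex51 {H K : Subgroup G} (hHK : H ≤ K) :
    Nat.card H * H.relIndex K = Nat.card K := by
  have := Subgroup.relIndex_mul_relIndex (⊥ : Subgroup G) H K bot_le hHK
  rwa [Subgroup.relIndex_bot_left, Subgroup.relIndex_bot_left] at this

omit [Finite G] in
/-- A nontrivial subgroup has a prime dividing its order. -/
theorem exists_prime_dvd_card_of_ne_bot51 {T : Subgroup G} (hT : T ≠ ⊥) :
    ∃ q : ℕ, q.Prime ∧ q ∣ Nat.card T := by
  apply Nat.exists_prime_and_dvd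
  intro h
  exact hT (Subgroup.eq_bot_of_card_eq T h)

/-- The END step, one side: `T ≤ C(P)` with a nontrivial normal `r`-subgroup `V`, `r ∈ β(M)`,
and containing a subgroup `R ≤ M` of order `r`, lies in `M`. -/
theorem endV (hG : IsMinSimpleOddOrder G)
    (h1403 : type_of% (@Cfsg.CfsgFrozen.S1403 G _ _ hG))
    (h1405 : type_of% (@Cfsg.CfsgFrozen.S1405 G _ _ hG))
    (h1423 : type_of% (@Cfsg.CfsgFrozen.S1423 G _ _ hG))
    {M P T V R : Subgroup G} {r : ℕ} (hM : IsCoatom M) (hr : r ∈ beta M)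
    (hne : alphaCore M ≠ ⊥)
    (hcyc : ∀ (s : ℕ) (S : Subgroup G), s.Prime → IsPGroup s S →
      S ≤ alphaCore M ⊓ Subgroup.centralizer (P : Set G) → IsCyclic S)
    (hTP : T ≤ Subgroup.centralizer (P : Set G)) (hVT : V ≤ T)
    (hTV : T ≤ Subgroup.normalizer (V : Set G)) (hV1 : V ≠ ⊥) (hV : IsPGroup r V)
    (hRT : R ≤ T) (hRM : R ≤ M) (hR : Nat.card R = r) : T ≤ M := by
  have hrα : r ∈ alpha M := hr.1
  have hrp : r.Prime := hrα.1
  have : Fact r.Prime := ⟨hrp⟩
  have hrσ : r ∈ sigma M := Cfsg.Agent.Lib.Helper78.BG.alpha_subset_sigma hG h1403 M hM hrα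
  have key : ∀ X : Subgroup G, X ≤ M → Nat.card X = r →
      Subgroup.centralizer (X : Set G) ≤ M ∧
        ∀ L : Subgroup G, IsCoatom L → Subgroup.centralizer (X : Set G) ≤ L → L = M := by
    intro X hXM hX
    exact (h1423 M hM r hrσ X hXM hX default (Or.inl hr)).1
  have hRp : IsPGroup r R := IsPGroup.of_card (n := 1) (by rw [hR, pow_one])
  have hRV : R ≤ Subgroup.normalizer (V : Set G) := hRT.trans hTV
  have hW : IsPGroup r (R ⊔ V : Subgroup G) := IsPGroup.to_sup_of_normal_right' hRp hV hRV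
  obtain ⟨w, hwV, hw1, hwc⟩ :=
    Cfsg.Agent.Lib.Helper53.exists_mem_center_of_normal_subgroup hW le_sup_right
      (sup_le hRV Subgroup.le_normalizer) hV1
  have hwM : w ∈ M := by
    apply (key R hRM hR).1
    rw [Subgroup.mem_centralizer_iff]
    intro x hx
    exact hwc x (Subgroup.mem_sup_left hx)
  have hwle : Subgroup.zpowers w ≤ V := by rwa [Subgroup.zpowers_le]
  have hZw : IsPGroup r (Subgroup.zpowers w) := hV.to_le hwle
  have hZw1 : Subgroup.zpowers w ≠ ⊥ := by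
    rw [Ne, Subgroup.zpowers_eq_bot]; exact hw1
  have hdvd : r ∣ Nat.card (Subgroup.zpowers w) := by
    rcases hZw.card_eq_or_dvd with h | h
    · exact absurd (Subgroup.card_eq_one.mp h) hZw1
    · exact h
  obtain ⟨z, hzw, hz⟩ := exists_orderOf_eq_of_dvd_card hrp hdvd
  have hZcard : Nat.card (Subgroup.zpowers z) = r := card_zpowers_of_orderOf hz
  have hZle : Subgroup.zpowers z ≤ Subgroup.zpowers w := by rwa [Subgroup.zpowers_le]
  have hZV : Subgroup.zpowers z ≤ V := hZle.trans hwle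
  have hZM : Subgroup.zpowers z ≤ M := hZle.trans (by rwa [Subgroup.zpowers_le])
  have hVC : V ≤ Subgroup.centralizer ((Subgroup.zpowers z : Subgroup G) : Set G) := by
    intro v hv
    rw [Subgroup.mem_centralizer_iff]
    intro x hx
    obtain ⟨k, rfl⟩ := Subgroup.mem_zpowers_iff.mp (hZle hx)
    have hc : Commute w v := (hwc v (Subgroup.mem_sup_right hv)).symm
    exact (hc.zpow_left k).eq
  have hVM : V ≤ M := hVC.trans (key _ hZM hZcard).1
  obtain ⟨hHall, -, -, -, -⟩ := h1405 M hM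
  have hNα : Subgroup.normalizer ((alphaCore M : Subgroup G) : Set G) = M :=
    Cfsg.Agent.Lib.Helper13.BG.normalizer_eq_of_coatom hG hM hne
      (Cfsg.Agent.Lib.Helper54.BG.alphaCore_le54 M)
      (Cfsg.Agent.Lib.Helper54.BG.le_normalizer_alphaCore M)
  have hVα : V ≤ alphaCore M := by
    apply Cfsg.Agent.Lib.Helper75.BG.le_of_coprime_relIndex (alphaCore M) V
    · rw [hNα]; exact hVM
    · rw [hNα]
      obtain ⟨n, hn⟩ := IsPGroup.iff_card.mp hV
      rw [hn]
      exact Nat.Coprime.pow_left n ((Nat.Prime.coprime_iff_not_dvd hrp).mpr (hHall.2.2 r hrp hrα))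
  have hVcyc : IsCyclic V := hcyc r V hrp hV (le_inf hVα (hVT.trans hTP))
  have hTZ : T ≤ Subgroup.normalizer ((Subgroup.zpowers z : Subgroup G) : Set G) := by
    apply Cfsg.Agent.Lib.Helper53.le_normalizer_of_conj_mem
    intro t ht x hx
    obtain ⟨k, hk⟩ :=
      Cfsg.Agent.Lib.Helper54.BG.exists_zpow_of_normalizer_isCyclic hVcyc (hTV ht)
    rw [hk x (hZV hx)]
    exact Subgroup.zpow_mem _ hx k
  have hZ1 : Subgroup.zpowers z ≠ ⊥ := by
    intro h
    rw [h, Subgroup.card_bot] at hZcard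
    exact hrp.ne_one hZcard.symm
  have hZtop : Subgroup.zpowers z ≠ ⊤ := fun h => hM.1 (top_le_iff.mp (h ▸ hZM))
  obtain ⟨L, hL, hNL⟩ := exists_coatom_ge (normalizer_ne_top hG hZ1 hZtop)
  have hLM : L = M :=
    (key _ hZM hZcard).2 L hL ((centralizer_le_normalizer' _).trans hNL)
  exact hTZ.trans (hLM ▸ hNL)

/-- One half of the END: the minimal normal subgroup is an `r`-group with `r ∈ β(M)`. -/
theorem end_half (hG : IsMinSimpleOddOrder G)
    (h1403 : type_of% (@Cfsg.CfsgFrozen.S1403 G _ _ hG))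
    (h1405 : type_of% (@Cfsg.CfsgFrozen.S1405 G _ _ hG))
    (h1423 : type_of% (@Cfsg.CfsgFrozen.S1423 G _ _ hG))
    {M P T V R : Subgroup G} {r rs : ℕ} (hM : IsCoatom M) (hr : r ∈ beta M)
    (hne : alphaCore M ≠ ⊥)
    (hcyc : ∀ (s : ℕ) (S : Subgroup G), s.Prime → IsPGroup s S →
      S ≤ alphaCore M ⊓ Subgroup.centralizer (P : Set G) → IsCyclic S)
    (hA : ∀ R1 : Subgroup G, R1 ≤ M → R1 ≤ Subgroup.centralizer (P : Set G) →
      Nat.card R1 = rs → False)
    (hrs : rs.Prime) (hrsT : rs ∣ Nat.card T)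
    (hTP : T ≤ Subgroup.centralizer (P : Set G)) (hVT : V ≤ T)
    (hTV : T ≤ Subgroup.normalizer (V : Set G)) (hV1 : V ≠ ⊥) (hV : IsPGroup r V)
    (hRT : R ≤ T) (hRM : R ≤ M) (hR : Nat.card R = r) : False := by
  have hTM : T ≤ M := endV hG h1403 h1405 h1423 hM hr hne hcyc hTP hVT hTV hV1 hV hRT hRM hR
  obtain ⟨y, hyT, hy⟩ := exists_orderOf_eq_of_dvd_card hrs hrsT
  have hle : Subgroup.zpowers y ≤ T := by rwa [Subgroup.zpowers_le]
  exact hA (Subgroup.zpowers y) (hle.trans hTM) (hle.trans hTP) (card_zpowers_of_orderOf hy)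

/-- **The END of the asymmetry lemma.** -/
theorem asym_end (hG : IsMinSimpleOddOrder G)
    (h1403 : type_of% (@Cfsg.CfsgFrozen.S1403 G _ _ hG))
    (h1405 : type_of% (@Cfsg.CfsgFrozen.S1405 G _ _ hG))
    (h1423 : type_of% (@Cfsg.CfsgFrozen.S1423 G _ _ hG))
    {M Ms P : Subgroup G} {p : ℕ} (hM : IsCoatom M) (hMs : IsCoatom Ms)
    (hpp : p.Prime) (hP : Nat.card P = p) (hPM : P ≤ M)
    (hαβ : ∀ s ∈ alpha M, s ∈ beta M) (hαβs : ∀ s ∈ alpha Ms, s ∈ beta Ms)
    (hne : alphaCore M ⊓ Subgroup.centralizer (P : Set G) ≠ ⊥)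
    (hnes : alphaCore Ms ⊓ Subgroup.centralizer (P : Set G) ≠ ⊥)
    (hcyc : ∀ (s : ℕ) (S : Subgroup G), s.Prime → IsPGroup s S →
      S ≤ alphaCore M ⊓ Subgroup.centralizer (P : Set G) → IsCyclic S)
    (hcycs : ∀ (s : ℕ) (S : Subgroup G), s.Prime → IsPGroup s S →
      S ≤ alphaCore Ms ⊓ Subgroup.centralizer (P : Set G) → IsCyclic S)
    (hA : ∀ (rs : ℕ) (R1 : Subgroup G), rs ∈ beta Ms → R1 ≤ M →
      R1 ≤ Subgroup.centralizer (P : Set G) → Nat.card R1 = rs → False)
    (hAs : ∀ (r : ℕ) (R1 : Subgroup G), r ∈ beta M → R1 ≤ Ms →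
      R1 ≤ Subgroup.centralizer (P : Set G) → Nat.card R1 = r → False) : False := by
  have hneM : alphaCore M ≠ ⊥ := fun h => hne (by rw [h, bot_inf_eq])
  have hneMs : alphaCore Ms ≠ ⊥ := fun h => hnes (by rw [h, bot_inf_eq])
  -- the subgroups R, Rs
  obtain ⟨r, hrp, hrd⟩ := exists_prime_dvd_card_of_ne_bot51 hne
  obtain ⟨x, hx, hxo⟩ := exists_orderOf_eq_of_dvd_card hrp hrd
  obtain ⟨rs, hrsp, hrsd⟩ := exists_prime_dvd_card_of_ne_bot51 hnes
  obtain ⟨xs, hxs, hxso⟩ := exists_orderOf_eq_of_dvd_card hrsp hrsd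
  have hRle : Subgroup.zpowers x ≤ alphaCore M ⊓ Subgroup.centralizer (P : Set G) := by
    rwa [Subgroup.zpowers_le]
  have hRsle : Subgroup.zpowers xs ≤ alphaCore Ms ⊓ Subgroup.centralizer (P : Set G) := by
    rwa [Subgroup.zpowers_le]
  have hRcard : Nat.card (Subgroup.zpowers x) = r := card_zpowers_of_orderOf hxo
  have hRscard : Nat.card (Subgroup.zpowers xs) = rs := card_zpowers_of_orderOf hxso
  have hrα : r ∈ alpha M := Cfsg.Agent.Lib.Helper23.piCoreOf_isPi (alpha M) M r hrp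
    (hrd.trans (Subgroup.card_dvd_of_le inf_le_left))
  have hrsα : rs ∈ alpha Ms := Cfsg.Agent.Lib.Helper23.piCoreOf_isPi (alpha Ms) Ms rs hrsp
    (hrsd.trans (Subgroup.card_dvd_of_le inf_le_left))
  have hrβ : r ∈ beta M := hαβ r hrα
  have hrsβ : rs ∈ beta Ms := hαβs rs hrsα
  have hRM : Subgroup.zpowers x ≤ M :=
    hRle.trans (inf_le_left.trans (Cfsg.Agent.Lib.Helper54.BG.alphaCore_le54 M))
  have hRsMs : Subgroup.zpowers xs ≤ Ms :=
    hRsle.trans (inf_le_left.trans (Cfsg.Agent.Lib.Helper54.BG.alphaCore_le54 Ms))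
  have hRC : Subgroup.zpowers x ≤ Subgroup.centralizer (P : Set G) := hRle.trans inf_le_right
  have hRsC : Subgroup.zpowers xs ≤ Subgroup.centralizer (P : Set G) := hRsle.trans inf_le_right
  have : Fact r.Prime := ⟨hrp⟩
  have : Fact rs.Prime := ⟨hrsp⟩
  -- the centralizer of P is a proper subgroup
  have hP1 : P ≠ ⊥ := by
    intro h
    rw [h, Subgroup.card_bot] at hP
    exact hpp.ne_one hP.symm
  have hPtop : P ≠ ⊤ := fun h => hM.1 (top_le_iff.mp (h ▸ hPM))
  have hCtop : Subgroup.centralizer (P : Set G) ≠ ⊤ := fun h =>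
    normalizer_ne_top hG hP1 hPtop (top_le_iff.mp (h ▸ centralizer_le_normalizer' P))
  have hCsolv : Group.IsSolvable ↥(Subgroup.centralizer (P : Set G)) :=
    isSolvable_of_ne_top hG hCtop
  -- the Hall subgroup T
  obtain ⟨T, hT, hRT⟩ := Cfsg.Agent.Lib.Helper67.BG.exists_piHallOf_ge ({r, rs} : Set ℕ)
    (Subgroup.centralizer (P : Set G)) hCsolv (Subgroup.zpowers x) hRC (by
      intro q hq hqd
      rw [hRcard] at hqd
      exact Or.inl ((Nat.prime_dvd_prime_iff_eq hq hrp).mp hqd))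
  obtain ⟨hTC, hTpi, hTidx⟩ := hT
  have hTtop : T ≠ ⊤ := fun h => hCtop (top_le_iff.mp (h ▸ hTC))
  have : Group.IsSolvable ↥T := isSolvable_of_ne_top hG hTtop
  have hR1 : Subgroup.zpowers x ≠ ⊥ := by
    intro h
    rw [h, Subgroup.card_bot] at hRcard
    exact hrp.ne_one hRcard.symm
  have : Nontrivial ↥T := by
    rw [Subgroup.nontrivial_iff_ne_bot]
    intro h
    exact hR1 (le_bot_iff.mp (h ▸ hRT))
  obtain ⟨V0, u, k, hV0n, -, hup, hk, hV0card⟩ :=
    Cfsg.Agent.Lib.Helper1.exists_minNormal_pGroup ↥T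
  have hVT : V0.map T.subtype ≤ T := Subgroup.map_subtype_le _
  have hVcard : Nat.card (V0.map T.subtype) = u ^ k := by
    rw [Subgroup.card_map_of_injective (Subgroup.subtype_injective T), hV0card]
  have hV : IsPGroup u (V0.map T.subtype) := by
    have : Fact u.Prime := ⟨hup⟩
    exact IsPGroup.of_card hVcard
  have hV1 : V0.map T.subtype ≠ ⊥ := by
    intro h
    rw [h, Subgroup.card_bot] at hVcard
    exact (Nat.one_lt_pow hk.ne' hup.one_lt).ne hVcard
  have hTV : T ≤ Subgroup.normalizer ((V0.map T.subtype : Subgroup G) : Set G) := by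
    apply Cfsg.Agent.Lib.Helper53.le_normalizer_of_conj_mem
    rintro t ht w ⟨v, hv, rfl⟩
    exact ⟨⟨t, ht⟩ * v * ⟨t, ht⟩⁻¹, hV0n.conj_mem v hv ⟨t, ht⟩, rfl⟩
  have hu : u = r ∨ u = rs := by
    apply hTpi u hup
    have h1 : u ∣ Nat.card (V0.map T.subtype) := by
      rw [hVcard]; exact dvd_pow_self u hk.ne'
    exact h1.trans (Subgroup.card_dvd_of_le hVT)
  have hrT : r ∣ Nat.card T := hRcard ▸ Subgroup.card_dvd_of_le hRT
  have hrsT : rs ∣ Nat.card T := by
    have h1 : rs ∣ Nat.card (Subgroup.centralizer (P : Set G)) :=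
      hRscard ▸ Subgroup.card_dvd_of_le hRsC
    rw [← card_mul_relIndex51 hTC] at h1
    rcases (Nat.Prime.dvd_mul hrsp).mp h1 with h | h
    · exact h
    · exact absurd h (hTidx rs hrsp (Or.inr rfl))
  rcases hu with rfl | rfl
  · exact end_half hG h1403 h1405 h1423 hM hrβ hneM hcyc (fun R1 => hA rs R1 hrsβ) hrsp hrsT
      hTC hVT hTV hV1 hV hRT hRM hRcard
  · -- conjugate `T` so that it contains `Rs`
    have hRsp : IsPGroup u (Subgroup.zpowers xs) := IsPGroup.of_card (n := 1) (by rw [hRscard, pow_one])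
    obtain ⟨l, hlC, hl⟩ := Cfsg.Agent.Lib.Helper13.BG.exists_conj_le_of_not_dvd_relIndex
      hRsp hRsC hTC (hTidx u hrsp (Or.inr rfl))
    have hRsT' : Subgroup.zpowers xs ≤ T.map (MulAut.conj l⁻¹).toMonoidHom := by
      intro y hy
      rw [mem_map_conj_iff]
      have h1 : l * y * l⁻¹ ∈ T := hl ⟨y, hy, rfl⟩
      simpa using h1
    have hT'C : T.map (MulAut.conj l⁻¹).toMonoidHom ≤ Subgroup.centralizer (P : Set G) := by
      intro y hy
      rw [mem_map_conj_iff] at hy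
      have h1 := hTC hy
      have h2 := Subgroup.mul_mem _ (Subgroup.mul_mem _ (Subgroup.inv_mem _ hlC) h1) hlC
      have e : l⁻¹ * (l⁻¹⁻¹ * y * l⁻¹) * l = y := by group
      rwa [e] at h2
    have hV'T' : (V0.map T.subtype).map (MulAut.conj l⁻¹).toMonoidHom ≤
        T.map (MulAut.conj l⁻¹).toMonoidHom := Subgroup.map_mono hVT
    have hT'V' : T.map (MulAut.conj l⁻¹).toMonoidHom ≤ Subgroup.normalizer
        (((V0.map T.subtype).map (MulAut.conj l⁻¹).toMonoidHom : Subgroup G) : Set G) := by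
      rw [normalizer_map_conj]
      exact Subgroup.map_mono hTV
    have hV'1 : (V0.map T.subtype).map (MulAut.conj l⁻¹).toMonoidHom ≠ ⊥ := by
      intro h
      apply hV1
      exact (Subgroup.map_eq_bot_iff_of_injective _ (MulAut.conj l⁻¹).injective).mp h
    have hV' : IsPGroup u ((V0.map T.subtype).map (MulAut.conj l⁻¹).toMonoidHom) :=
      isPGroup_map_conj hV _
    have hrT' : r ∣ Nat.card (T.map (MulAut.conj l⁻¹).toMonoidHom) := by
      rw [card_map_conj]; exact hrT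
    exact end_half hG h1403 h1405 h1423 hMs hrsβ hneMs hcycs (fun R1 => hAs r R1 hrβ) hrp hrT'
      hT'C hV'T' hT'V' hV'1 hV' hRsT' hRsMs hRscard

end Cfsg.Agent.Lib.Helper51.BG
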